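import Groth.Agent.GlueCompl21.Algebra
import Mathlib.AlgebraicGeometry.Morphisms.Flat
import Mathlib.AlgebraicGeometry.Morphisms.Finite
import Mathlib.RingTheory.AdicCompletion.LocalRing
import Mathlib.RingTheory.AdicCompletion.AsTensorProduct
import Mathlib.AlgebraicGeometry.Noetherian
import Groth.Agent.Lib.AlgSp.FpqcAffine
import Groth.Prelude.Def_FEt

/-!
# Gluing finite schemes over a punctured spectrum and a completion
-/

set_option autoImplicit false
set_option backward.isDefEq.respectTransparency false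
set_option linter.style.haveILetI false

universe u

open CategoryTheory CategoryTheory.Limits AlgebraicGeometry TopologicalSpace Opposite
open scoped TensorProduct

noncomputable section

namespace Groth.Agent.GlueCompl21

theorem exists_approx (A : Type u) [CommRing A] (m : Ideal A) (hm : m.FG) (k : ℕ) (a' : AdicCompletion m A) :
    ∃ a : A, a' - algebraMap A (AdicCompletion m A) a ∈ (m ^ k).map (algebraMap A (AdicCompletion m A)) := by
  obtain ⟨a, ha⟩ := Ideal.Quotient.mk_surjective (AdicCompletion.eval m A k a')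
  refine ⟨a, ?_⟩
  have h : a' - algebraMap A (AdicCompletion m A) a ∈ LinearMap.ker (AdicCompletion.eval m A k) := by
    rw [LinearMap.mem_ker, map_sub, sub_eq_zero, ← ha]
    rfl
  rw [← AdicCompletion.pow_smul_top_eq_ker_eval hm] at h
  rwa [Ideal.smul_top_eq_map] at h

/-- The structure map of a scheme over an affine scheme on global sections. -/
abbrev structHom {A : Type u} [CommRing A] {P : Scheme.{u}} (p : P ⟶ Spec (CommRingCat.of A)) : A →+* Γ(P, ⊤) :=
  p.appTop.hom.comp (Scheme.ΓSpecIso (CommRingCat.of A)).inv.hom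

/-- Sections of a quasi-compact separated scheme after flat base change. -/
theorem isPushout_sections {A A' : Type u} [CommRing A] [CommRing A'] [Algebra A A'] [Module.Flat A A']
    {P P' : Scheme.{u}} (p : P ⟶ Spec (CommRingCat.of A)) [QuasiCompact p] [QuasiSeparated p]
    (z : P' ⟶ P) (p' : P' ⟶ Spec (CommRingCat.of A'))
    (sq : IsPullback z p' p (Spec.map (CommRingCat.ofHom (algebraMap A A')))) :
    IsPushout (CommRingCat.ofHom (structHom p)) (CommRingCat.ofHom (algebraMap A A')) z.appTop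
      (CommRingCat.ofHom (structHom p')) := by
  let f := Spec.map (CommRingCat.ofHom (algebraMap A A'))
  haveI : Flat f := by
    rw [HasRingHomProperty.Spec_iff (P := @Flat)]
    exact RingHom.flat_algebraMap_iff.2 inferInstance
  have hle : (⊤ : (Spec (CommRingCat.of A')).Opens) ≤ f ⁻¹ᵁ ⊤ := le_top
  have u₀ : (⊤ : P'.Opens) = z ⁻¹ᵁ (p ⁻¹ᵁ ⊤) ⊓ p' ⁻¹ᵁ ⊤ := by simp
  have i₀ := isIso_pushoutSection_of_isQuasiSeparated_of_flat_right sq hle (le_refl (p ⁻¹ᵁ ⊤)) u₀
    (isAffineOpen_top _) (isAffineOpen_top _)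
    (p.isCompact_preimage (isAffineOpen_top _).isCompact) (p.isQuasiSeparated_preimage (isAffineOpen_top _).isQuasiSeparated)
  have h := (isIso_pushoutSection_iff sq hle (le_refl (p ⁻¹ᵁ ⊤)) u₀).1 i₀
  refine h.of_iso (Scheme.ΓSpecIso (CommRingCat.of A)) (Iso.refl _) (Scheme.ΓSpecIso (CommRingCat.of A'))
    (Iso.refl _) ?_ ?_ ?_ ?_
  · show p.appLE ⊤ (p ⁻¹ᵁ ⊤) _ ≫ 𝟙 _ = _ ≫ CommRingCat.ofHom (structHom p)
    rw [Category.comp_id]
    exact Eq.trans (by rw [Scheme.Hom.appTop, Scheme.Hom.app_eq_appLE] <;> rfl) (Iso.hom_inv_id_assoc (Scheme.ΓSpecIso (CommRingCat.of A)) p.appTop).symm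
  · show f.appLE ⊤ ⊤ _ ≫ _ = _
    rw [← Scheme.ΓSpecIso_naturality, Scheme.Hom.appTop, Scheme.Hom.app_eq_appLE]
    rfl
  · show z.appLE (p ⁻¹ᵁ ⊤) ⊤ _ ≫ 𝟙 _ = 𝟙 _ ≫ z.appTop
    rw [Category.comp_id, Category.id_comp, Scheme.Hom.appTop, Scheme.Hom.app_eq_appLE]
    rfl
  · show p'.appLE ⊤ ⊤ _ ≫ 𝟙 _ = _ ≫ CommRingCat.ofHom (structHom p')
    rw [Category.comp_id]
    exact Eq.trans (by rw [Scheme.Hom.appTop, Scheme.Hom.app_eq_appLE] <;> rfl) (Iso.hom_inv_id_assoc (Scheme.ΓSpecIso (CommRingCat.of A')) p'.appTop).symm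

/-- Restriction to an open containing a basic open has torsion kernel and cokernel at the element. -/
theorem exists_pow_mul {Y T : Scheme.{u}} [IsAffine Y] [CompactSpace T] [QuasiSeparatedSpace T]
    (i : T ⟶ Y) [IsOpenImmersion i] (y : Γ(Y, ⊤)) (hy : Y.basicOpen y ≤ i.opensRange) :
    (∀ x, i.appTop x = 0 → ∃ k : ℕ, y ^ k * x = 0) ∧
    (∀ s, ∃ (k : ℕ) (x : Γ(Y, ⊤)), i.appTop x = i.appTop y ^ k * s) := by
  let D := Y.basicOpen y
  let D' := T.basicOpen (i.appTop y)
  have hD : i ⁻¹ᵁ D = D' := Scheme.preimage_basicOpen_top i y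
  haveI := isLocalization_basicOpen_of_qcqs (X := Y) (U := ⊤) isCompact_univ isQuasiSeparated_univ y
  haveI := isLocalization_basicOpen_of_qcqs (X := T) (U := ⊤) isCompact_univ isQuasiSeparated_univ (i.appTop y)
  haveI : IsIso (i.app D) := i.isIso_app D hy
  let res := (Y.presheaf.map (homOfLE (le_top : D ≤ ⊤)).op).hom
  let res' := (T.presheaf.map (homOfLE (le_top : i ⁻¹ᵁ D ≤ ⊤)).op).hom
  have hnat : ∀ x, i.app D (res x) = res' (i.appTop x) := fun x =>
    ConcreteCategory.congr_hom (i.naturality (homOfLE (le_top : D ≤ ⊤)).op) x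
  letI : Algebra Γ(T, ⊤) Γ(T, i ⁻¹ᵁ D) := res'.toAlgebra
  have haux : ∀ (W : T.Opens) (hW : W ≤ ⊤), W = D' → @IsLocalization.Away _ _ (i.appTop y) Γ(T, W) _
      (T.presheaf.map (homOfLE hW).op).hom.toAlgebra := by
    rintro _ _ rfl
    assumption
  haveI : IsLocalization.Away (i.appTop y) Γ(T, i ⁻¹ᵁ D) := haux _ le_top hD
  refine ⟨fun x hx => ?_, fun s => ?_⟩
  · have h0 : res x = 0 := (ConcreteCategory.bijective_of_isIso (i.app D)).1 (by
      rw [hnat, hx, map_zero, map_zero])
    obtain ⟨⟨_, k, rfl⟩, hc⟩ := (IsLocalization.map_eq_zero_iff (Submonoid.powers y) Γ(Y, D) x).1 h0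
    exact ⟨k, hc⟩
  · obtain ⟨t, ht⟩ := (ConcreteCategory.bijective_of_isIso (i.app D)).2 (res' s)
    obtain ⟨⟨x, ⟨_, k, rfl⟩⟩, hx⟩ := IsLocalization.surj (Submonoid.powers y) t
    have h1 : res' (i.appTop x) = res' (i.appTop y ^ k * s) := by
      rw [map_mul, ← ht, ← map_pow, ← hnat, ← hnat, ← map_mul, mul_comm]
      exact congrArg (i.app D) hx.symm
    obtain ⟨⟨_, l, rfl⟩, hl⟩ := (IsLocalization.eq_iff_exists (Submonoid.powers (i.appTop y)) Γ(T, i ⁻¹ᵁ D)).1 h1
    refine ⟨l + k, y ^ l * x, ?_⟩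
    rw [map_mul, map_pow, pow_add, mul_assoc]
    exact hl

/-- A uniform power of the ideal lands in a subideal containing powers of each element. -/
theorem exists_pow_forall {A : Type u} [CommRing A] (m : Ideal A) (hm : m.FG) (I : Ideal A)
    (h : ∀ y ∈ m, ∃ k, y ^ k ∈ I) : ∃ k, ∀ r ∈ m ^ k, r ∈ I := by
  obtain ⟨k, hk⟩ := Ideal.exists_pow_le_of_le_radical_of_fg (fun y hy => h y hy : m ≤ I.radical) hm
  exact ⟨k, fun r hr => hk hr⟩

/-- Finite schemes over the punctured spectrum and over the completion glue. -/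
theorem exists_glue (A : Type u) [CommRing A] [IsNoetherianRing A] [IsLocalRing A]
    (V : Over (FEt.puncturedSpec A : Scheme.{u})) [IsFinite V.hom]
    (Y' : Over (Spec (CommRingCat.of (AdicCompletion (IsLocalRing.maximalIdeal A) A)))) [IsFinite Y'.hom]
    (e : (Over.pullback (pullback.fst (FEt.puncturedSpec A).ι (Spec.map (CommRingCat.ofHom (algebraMap A
        (AdicCompletion (IsLocalRing.maximalIdeal A) A)))))).obj V ≅
      (Over.pullback (pullback.snd (FEt.puncturedSpec A).ι (Spec.map (CommRingCat.ofHom (algebraMap A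
        (AdicCompletion (IsLocalRing.maximalIdeal A) A)))))).obj Y') :
    ∃ Y : Over (Spec (CommRingCat.of A)), IsFinite Y.hom ∧
      Nonempty ((Over.pullback (FEt.puncturedSpec A).ι).obj Y ≅ V) ∧
      Nonempty ((Over.pullback (Spec.map (CommRingCat.ofHom (algebraMap A
        (AdicCompletion (IsLocalRing.maximalIdeal A) A))))).obj Y ≅ Y') := by
  let m := IsLocalRing.maximalIdeal A
  have hm : m.FG := IsNoetherian.noetherian _
  let A' := AdicCompletion m A
  haveI : Module.Flat A A' := AdicCompletion.flat_of_isNoetherian _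
  haveI : Module.FaithfullyFlat A A' := Module.FaithfullyFlat.of_flat_of_isLocalHom
  haveI : IsNoetherianRing (CommRingCat.of A) := inferInstanceAs (IsNoetherianRing A)
  let U := FEt.puncturedSpec A
  let S := Spec (CommRingCat.of A)
  let S' := Spec (CommRingCat.of A')
  let f : S' ⟶ S := Spec.map (CommRingCat.ofHom (algebraMap A A'))
  haveI : Flat f := by
    rw [HasRingHomProperty.Spec_iff (P := @Flat)]
    exact RingHom.flat_algebraMap_iff.2 inferInstance
  haveI : Surjective f := ⟨PrimeSpectrum.comap_surjective_of_faithfullyFlat⟩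
  let f₁ := pullback.fst U.ι f
  let j' := pullback.snd U.ι f
  let v : V.left ⟶ (U : Scheme.{u}) := V.hom
  let y' : Y'.left ⟶ S' := Y'.hom
  haveI : IsFinite v := ‹IsFinite V.hom›
  haveI : IsFinite y' := ‹IsFinite Y'.hom›
  haveI : IsAffine Y'.left := isAffine_of_isAffineHom y'
  haveI : CompactSpace (U : Scheme.{u}) := isCompact_iff_compactSpace.1 (NoetherianSpace.isCompact _)
  haveI : QuasiCompact U.ι := inferInstance
  let a : V.left ⟶ S := v ≫ U.ι
  let T := pullback v f₁
  let zV : T ⟶ V.left := pullback.fst v f₁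
  let a' : T ⟶ S' := pullback.snd v f₁ ≫ j'
  have sqV : IsPullback zV a' a f :=
    (IsPullback.of_hasPullback v f₁).paste_vert (IsPullback.of_hasPullback U.ι f)
  let κ' : T ≅ pullback y' j' := (Over.forget _).mapIso e
  have hκ' : κ'.hom ≫ pullback.snd y' j' = pullback.snd v f₁ := Over.w e.hom
  let iY : T ⟶ Y'.left := κ'.hom ≫ pullback.fst y' j'
  have hiY : iY ≫ y' = a' := by
    rw [Category.assoc, pullback.condition, reassoc_of% hκ']
  -- the algebras
  letI : Algebra A Γ(V.left, ⊤) := (structHom a).toAlgebra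
  letI : Algebra A' Γ(Y'.left, ⊤) := (structHom y').toAlgebra
  letI : Algebra A Γ(Y'.left, ⊤) := ((structHom y').comp (algebraMap A A')).toAlgebra
  haveI : IsScalarTower A A' Γ(Y'.left, ⊤) := IsScalarTower.of_algebraMap_eq fun _ => rfl
  haveI : Module.Finite A' Γ(Y'.left, ⊤) :=
    RingHom.Finite.comp y'.finite_appTop (RingHom.Finite.of_surjective _
      (ConcreteCategory.bijective_of_isIso (Scheme.ΓSpecIso (CommRingCat.of A')).inv).2)
  haveI : QuasiSeparated a := inferInstance
  haveI : QuasiCompact a := inferInstance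
  have po := isPushout_sections a zV a' sqV
  let ψ := (CommRingCat.isPushout_tensorProduct A A' Γ(V.left, ⊤)).flip.isoIsPushout _ _ po
  have hψB : ∀ b : Γ(V.left, ⊤), ψ.hom ((1 : A') ⊗ₜ[A] b) = zV.appTop b := fun b =>
    ConcreteCategory.congr_hom ((CommRingCat.isPushout_tensorProduct A A' Γ(V.left, ⊤)).flip.inl_isoIsPushout_hom _ _ po) b
  have hψA : ∀ x : A', ψ.hom (algebraMap A' (A' ⊗[A] Γ(V.left, ⊤)) x) = structHom a' x := fun x =>
    ConcreteCategory.congr_hom ((CommRingCat.isPushout_tensorProduct A A' Γ(V.left, ⊤)).flip.inr_isoIsPushout_hom _ _ po) x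
  have hψi := ConcreteCategory.bijective_of_isIso ψ.hom
  have hψA' : ∀ x : A', ψ.inv (structHom a' x) = algebraMap A' (A' ⊗[A] Γ(V.left, ⊤)) x := fun x => by
    rw [← hψA, ← ConcreteCategory.comp_apply, Iso.hom_inv_id, ConcreteCategory.id_apply]
  let α : Γ(Y'.left, ⊤) →ₐ[A'] A' ⊗[A] Γ(V.left, ⊤) :=
    { (iY.appTop ≫ ψ.inv).hom with
      commutes' := fun x => by
        show ψ.inv (iY.appTop (structHom y' x)) = _
        show ψ.inv (iY.appTop (structHom y' x)) = _
        rw [show iY.appTop (structHom y' x) = structHom a' x from by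
          show (y'.appTop ≫ iY.appTop) _ = a'.appTop _
          rw [← Scheme.Hom.comp_appTop, hiY], hψA'] }
  have hψα : ∀ x, ψ.hom (α x) = iY.appTop x := fun x => by
    show ψ.hom (ψ.inv _) = _
    rw [← ConcreteCategory.comp_apply, Iso.inv_hom_id, ConcreteCategory.id_apply]
    rfl
  -- torsion
  haveI : IsOpenImmersion iY := inferInstance
  haveI : CompactSpace T := by
    haveI : QuasiCompact a' := MorphismProperty.of_isPullback sqV ‹QuasiCompact a›
    exact QuasiCompact.compactSpace_of_compactSpace a'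
  haveI : QuasiSeparatedSpace T := by
    haveI : QuasiSeparated a' := MorphismProperty.of_isPullback sqV ‹QuasiSeparated a›
    exact quasiSeparatedSpace_of_quasiSeparated a'
  have hrange : ∀ r ∈ m, Y'.left.basicOpen (structHom y' (algebraMap A A' r)) ≤ iY.opensRange := by
    intro r hr p hp
    have h1 : f (y' p) ∈ (PrimeSpectrum.basicOpen r : S.Opens) := by
      have e1 : Y'.left.basicOpen (structHom y' (algebraMap A A' r)) = (y' ≫ f) ⁻¹ᵁ PrimeSpectrum.basicOpen r := by
        rw [← basicOpen_eq_of_affine (R := CommRingCat.of A), Scheme.preimage_basicOpen_top]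
        congr 1
        show y'.appTop _ = (Scheme.Hom.appTop (y' ≫ f)) _
        rw [Scheme.Hom.comp_appTop, CommRingCat.comp_apply]
        congr 1
        exact (ConcreteCategory.congr_hom (Scheme.ΓSpecIso_inv_naturality (CommRingCat.ofHom (algebraMap A A'))) r)
      exact e1.le hp
    have h2 : y' p ∈ j'.opensRange := by
      rw [Scheme.Hom.opensRange_pullbackSnd, Scheme.Opens.opensRange_ι]
      intro h
      exact h1 (((congrArg PrimeSpectrum.asIdeal (show f (y' p) = IsLocalRing.closedPoint A from h))).ge hr)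
    obtain ⟨q, hq⟩ := h2
    obtain ⟨w, hw, -⟩ := Scheme.Pullback.exists_preimage_pullback (f := y') (g := j') p q hq.symm
    exact ⟨κ'.inv w, by
      show iY (κ'.inv w) = p
      rw [← Scheme.Hom.comp_apply, Iso.inv_hom_id_assoc, hw]⟩
  have hk : ∀ x, α x = 0 → ∃ k, ∀ r ∈ m ^ k, r • x = 0 := by
    intro x hx
    refine exists_pow_forall m hm (Ideal.comap (algebraMap A Γ(Y'.left, ⊤))
      (Submodule.colon (⊥ : Ideal Γ(Y'.left, ⊤)) {x})) (fun r hr => ?_) |>.imp fun k hk r hr => ?_
    · obtain ⟨k, hk⟩ := (exists_pow_mul iY _ (hrange r hr)).1 x (by rw [← hψα, hx, map_zero])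
      exact ⟨k, Submodule.mem_colon_singleton.2 (by rw [map_pow]; exact hk)⟩
    · rw [Algebra.smul_def]
      exact Submodule.mem_colon_singleton.1 (hk r hr)
  have hc : ∀ w, ∃ k, ∀ r ∈ m ^ k, ∃ x, α x = r • w := by
    intro w
    let I : Ideal A :=
      { carrier := {r | ∃ x, α x = r • w}
        zero_mem' := ⟨0, by rw [map_zero, zero_smul]⟩
        add_mem' := fun ⟨x, hx⟩ ⟨z, hz⟩ => ⟨x + z, by rw [map_add, hx, hz, add_smul]⟩
        smul_mem' := fun c r ⟨x, hx⟩ => ⟨c • x, by
          rw [← IsScalarTower.algebraMap_smul A' c x, map_smul, hx, IsScalarTower.algebraMap_smul, smul_smul,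
            smul_eq_mul]⟩ }
    refine exists_pow_forall m hm I fun r hr => ?_
    obtain ⟨k, x, hx⟩ := (exists_pow_mul iY _ (hrange r hr)).2 (ψ.hom w)
    refine ⟨k, x, hψi.1 ?_⟩
    rw [hψα, hx]
    have e1 : ∀ c : A', c • w = algebraMap A' (A' ⊗[A] Γ(V.left, ⊤)) c * w := fun c => Algebra.smul_def c w
    rw [← IsScalarTower.algebraMap_smul A' (r ^ k) w, e1, map_mul, ← map_pow, ← map_pow]
    congr 1
    rw [← α.commutes (algebraMap A A' (r ^ k)), hψα]
    simp only [map_pow]
    rfl
  have happ := exists_approx A m hm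
  haveI := finite_glue happ α hk hc
  have hbij := cmp_bijective happ α hk hc
  -- the scheme
  let C := glue α
  let q : Spec (CommRingCat.of C) ⟶ S := Spec.map (CommRingCat.ofHom (algebraMap A C))
  haveI : IsFinite q := (IsFinite.SpecMap_iff _).2 (RingHom.finite_algebraMap.2 inferInstance)
  let cmpI : CommRingCat.of (A' ⊗[A] C) ≅ Γ(Y'.left, ⊤) :=
    (AlgEquiv.ofBijective (cmp α) hbij).toRingEquiv.toCommRingCatIso
  let toY : Y'.left ⟶ Spec (CommRingCat.of C) :=
    Y'.left.toSpecΓ ≫ Spec.map (CommRingCat.ofHom (toSnd α).toRingHom)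
  have hy' : y' = Y'.left.toSpecΓ ≫ Spec.map (CommRingCat.ofHom (structHom y')) := by
    show _ = _ ≫ Spec.map ((Scheme.ΓSpecIso (CommRingCat.of A')).inv ≫ y'.appTop)
    rw [Spec.map_comp, ← Category.assoc, ← Scheme.toSpecΓ_naturality, Category.assoc,
      toSpecΓ_SpecMap_ΓSpecIso_inv, Category.comp_id]
  have sqY : IsPullback toY y' q f := by
    refine ((isPullback_SpecMap_of_isPushout _ _ _ _
      (CommRingCat.isPushout_tensorProduct A A' C).flip)).of_iso
        ((Scheme.Spec.mapIso cmpI.op).symm ≪≫ Y'.left.isoSpec.symm) (Iso.refl _) (Iso.refl _) (Iso.refl _)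
        ?_ ?_ (by simp [q]) (by simp [f])
    · rw [Iso.refl_hom, Category.comp_id, ← cancel_epi (Scheme.Spec.mapIso cmpI.op).hom]
      show _ = _ ≫ ((Scheme.Spec.mapIso cmpI.op).inv ≫ Y'.left.isoSpec.inv) ≫ Y'.left.isoSpec.hom ≫ _
      simp only [Category.assoc, Iso.inv_hom_id_assoc, Iso.hom_inv_id_assoc]
      show Spec.map _ ≫ Spec.map _ = Spec.map _
      rw [← Spec.map_comp]
      congr 1
      ext c
      exact (cmp_tmul α 1 c).trans (one_smul _ _)
    · rw [Iso.refl_hom, Category.comp_id, ← cancel_epi (Scheme.Spec.mapIso cmpI.op).hom, hy']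
      show _ = _ ≫ ((Scheme.Spec.mapIso cmpI.op).inv ≫ Y'.left.isoSpec.inv) ≫ Y'.left.isoSpec.hom ≫ _
      simp only [Category.assoc, Iso.inv_hom_id_assoc, Iso.hom_inv_id_assoc]
      show Spec.map _ ≫ Spec.map _ = Spec.map _
      rw [← Spec.map_comp]
      congr 1
      ext x
      exact (cmp α).commutes x
  let toV : V.left ⟶ Spec (CommRingCat.of C) :=
    V.left.toSpecΓ ≫ Spec.map (CommRingCat.ofHom (toFst α).toRingHom)
  have htoV : toV ≫ q = a := by
    show (_ ≫ Spec.map _) ≫ Spec.map _ = a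
    rw [Category.assoc, ← Spec.map_comp, show CommRingCat.ofHom (algebraMap A C) ≫ CommRingCat.ofHom (toFst α).toRingHom =
      (Scheme.ΓSpecIso (CommRingCat.of A)).inv ≫ a.appTop from by ext x; exact (toFst α).commutes x,
      Spec.map_comp, ← Category.assoc, ← Scheme.toSpecΓ_naturality, Category.assoc,
      toSpecΓ_SpecMap_ΓSpecIso_inv, Category.comp_id]
  let κ : V.left ⟶ pullback q U.ι := pullback.lift toV v htoV
  have hT : zV ≫ toV = iY ≫ toY := by
    show zV ≫ _ ≫ Spec.map _ = iY ≫ _ ≫ Spec.map _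
    rw [Scheme.toSpecΓ_naturality_assoc, Scheme.toSpecΓ_naturality_assoc, ← Spec.map_comp, ← Spec.map_comp]
    congr 2
    ext c
    show zV.appTop (toFst α c) = iY.appTop (toSnd α c)
    rw [← hψα, comm, hψB]
  -- descent of the comparison
  have hQ : (@Surjective ⊓ @Flat ⊓ @QuasiCompact : MorphismProperty Scheme.{u}) (pullback.fst (pullback.snd q U.ι) f₁) :=
    ⟨⟨MorphismProperty.pullback_fst _ _ (MorphismProperty.pullback_fst _ _ (inferInstance : Surjective f) : Surjective f₁),
      MorphismProperty.pullback_fst _ _ (MorphismProperty.pullback_fst _ _ (inferInstance : Flat f) : Flat f₁)⟩,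
      MorphismProperty.pullback_fst _ _ (MorphismProperty.pullback_fst _ _ (inferInstance : QuasiCompact f) : QuasiCompact f₁)⟩
  let y₁ := pullback.fst (pullback.snd q U.ι) f₁
  let κ₁ : T ⟶ pullback (pullback.snd q U.ι) f₁ :=
    pullback.lift (zV ≫ κ) (pullback.snd v f₁) (by rw [Category.assoc, pullback.lift_snd]; exact pullback.condition)
  have hR : IsPullback (y₁ ≫ pullback.fst q U.ι) (pullback.snd (pullback.snd q U.ι) f₁) q (f₁ ≫ U.ι) :=
    (IsPullback.of_hasPullback (pullback.snd q U.ι) f₁).paste_horiz (IsPullback.of_hasPullback q U.ι)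
  have hbig : IsPullback (iY ≫ toY) (pullback.snd v f₁) q (f₁ ≫ U.ι) := by
    have h0 : IsPullback iY (pullback.snd v f₁) y' j' :=
      (IsPullback.of_hasPullback y' j').of_iso κ'.symm (Iso.refl _) (Iso.refl _) (Iso.refl _)
        (by simp [iY]) (by simp [← hκ']) (by simp) (by simp)
    have := h0.paste_horiz sqY
    rwa [show f₁ ≫ U.ι = j' ≫ f from pullback.condition]
  have hκ₁ : κ₁ = hbig.isoPullback.hom ≫ hR.isoPullback.inv := by
    rw [Iso.eq_comp_inv]
    apply pullback.hom_ext
    · rw [Category.assoc, hR.isoPullback_hom_fst, hbig.isoPullback_hom_fst, ← hT, pullback.lift_fst_assoc,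
        Category.assoc, pullback.lift_fst]
    · rw [Category.assoc, hR.isoPullback_hom_snd, hbig.isoPullback_hom_snd, pullback.lift_snd]
  haveI : IsIso κ₁ := by rw [hκ₁]; infer_instance
  have sqK : IsPullback κ₁ zV y₁ κ := by
    refine (IsPullback.of_right (h₁₂ := pullback.snd (pullback.snd q U.ι) f₁) (v₁₃ := f₁)
      (h₂₂ := pullback.snd q U.ι) ?_ ((pullback.lift_fst _ _ _).symm.trans rfl).symm
        (IsPullback.of_hasPullback (pullback.snd q U.ι) f₁).flip)
    rw [pullback.lift_snd, pullback.lift_snd]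
    exact (IsPullback.of_hasPullback v f₁).flip
  haveI : IsIso κ := MorphismProperty.of_isPullback_of_descendsAlong
    (P := MorphismProperty.isomorphisms Scheme.{u}) (Q := @Surjective ⊓ @Flat ⊓ @QuasiCompact) sqK hQ
    (inferInstanceAs (IsIso κ₁))
  exact ⟨Over.mk q, inferInstanceAs (IsFinite q), ⟨(Over.isoMk (asIso κ) (pullback.lift_snd _ _ _)).symm⟩,
    ⟨(Over.isoMk sqY.isoPullback sqY.isoPullback_hom_snd).symm⟩⟩

end Groth.Agent.GlueCompl21
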