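import Mathlib.RingTheory.Flat.FaithfullyFlat.Basic
import Mathlib.RingTheory.Finiteness.Descent
import Mathlib.RingTheory.TensorProduct.Basic

/-!
# Gluing a finite algebra along a completion
-/

set_option autoImplicit false

universe u

open TensorProduct

namespace Groth.Agent.GlueCompl21

variable {A A' : Type u} [CommRing A] [CommRing A'] [Algebra A A'] {m : Ideal A}
  (happrox : ∀ (k : ℕ) (a' : A'), ∃ a : A, a' - algebraMap A A' a ∈ (m ^ k).map (algebraMap A A'))

include happrox in
/-- Elements of a torsion module generate its base change. -/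
theorem tmul_eq_one_tmul {T : Type u} [AddCommGroup T] [Module A T] (t : T) {k : ℕ}
    (ht : ∀ r ∈ m ^ k, r • t = 0) (a' : A') : ∃ a : A, a' ⊗ₜ[A] t = (1 : A') ⊗ₜ[A] (a • t) := by
  obtain ⟨a, ha⟩ := happrox k a'
  refine ⟨a, ?_⟩
  have hz : ∀ x ∈ (m ^ k).map (algebraMap A A'), x ⊗ₜ[A] t = 0 := by
    intro x hx
    induction hx using Submodule.span_induction with
    | mem x hx =>
      obtain ⟨r, hr, rfl⟩ := hx
      rw [Algebra.algebraMap_eq_smul_one, TensorProduct.smul_tmul, ht r hr, TensorProduct.tmul_zero]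
    | zero => exact TensorProduct.zero_tmul _ _
    | add x y _ _ hx hy => rw [TensorProduct.add_tmul, hx, hy, add_zero]
    | smul c x _ hx =>
      rw [← TensorProduct.smul_tmul', hx, smul_zero]
  have := hz _ ha
  rw [TensorProduct.sub_tmul, sub_eq_zero] at this
  rw [this, Algebra.algebraMap_eq_smul_one, TensorProduct.smul_tmul]

include happrox in
/-- The base change of a torsion module over the completion is the module. -/
theorem mult_injective {T : Type u} [AddCommGroup T] [Module A T] [Module A' T] [IsScalarTower A A' T]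
    (ht : ∀ t : T, ∃ k, ∀ r ∈ m ^ k, r • t = 0) :
    Function.Injective ((LinearMap.id : T →ₗ[A] T).liftBaseChange A') := by
  have hs : ∀ w : A' ⊗[A] T, ∃ t : T, w = (1 : A') ⊗ₜ[A] t := by
    intro w
    induction w using TensorProduct.induction_on with
    | zero => exact ⟨0, (TensorProduct.tmul_zero _ _).symm⟩
    | tmul a' t =>
      obtain ⟨k, hk⟩ := ht t
      obtain ⟨a, ha⟩ := tmul_eq_one_tmul happrox t hk a'
      exact ⟨a • t, ha⟩
    | add x y hx hy =>
      obtain ⟨t, rfl⟩ := hx
      obtain ⟨t', rfl⟩ := hy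
      exact ⟨t + t', (TensorProduct.tmul_add _ _ _).symm⟩
  rw [injective_iff_map_eq_zero]
  intro w hw
  obtain ⟨t, rfl⟩ := hs w
  rw [LinearMap.liftBaseChange_tmul, one_smul, LinearMap.id_apply] at hw
  rw [hw, TensorProduct.tmul_zero]

variable {B M' : Type u} [CommRing B] [Algebra A B] [CommRing M'] [Algebra A M'] [Algebra A' M']
  [IsScalarTower A A' M']

/-- The fibre product over the base change. -/
def glue (α : M' →ₐ[A'] A' ⊗[A] B) : Subalgebra A (B × M') :=
  AlgHom.equalizer ((Algebra.TensorProduct.includeRight : B →ₐ[A] A' ⊗[A] B).comp (AlgHom.fst A B M'))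
    ((α.restrictScalars A).comp (AlgHom.snd A B M'))

variable (α : M' →ₐ[A'] A' ⊗[A] B)

/-- The first projection. -/
def toFst : glue α →ₐ[A] B := (AlgHom.fst A B M').comp (glue α).val

/-- The second projection. -/
def toSnd : glue α →ₐ[A] M' := (AlgHom.snd A B M').comp (glue α).val

theorem comm (c : glue α) : α (toSnd α c) = (1 : A') ⊗ₜ[A] toFst α c := c.2.symm

/-- The comparison map from the base change of the fibre product. -/
noncomputable def cmp : A' ⊗[A] glue α →ₐ[A'] M' :=
  Algebra.TensorProduct.lift (Algebra.ofId A' M') (toSnd α) fun _ _ => Commute.all _ _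

theorem cmp_tmul (a' : A') (c : glue α) : cmp α (a' ⊗ₜ c) = a' • toSnd α c := by
  rw [Algebra.smul_def]
  exact Algebra.TensorProduct.lift_tmul _ _ _ _ _

variable [Module.Flat A A'] (hk : ∀ x, α x = 0 → ∃ k, ∀ r ∈ m ^ k, r • x = 0)
  (hc : ∀ w, ∃ k, ∀ r ∈ m ^ k, ∃ x, α x = r • w)

include happrox hk hc in
theorem cmp_bijective : Function.Bijective (cmp α) := by
  let C := glue α
  let αA : M' →ₗ[A] A' ⊗[A] B := α.toLinearMap.restrictScalars A
  let αl : M' →ₗ[A'] A' ⊗[A] B := α.toLinearMap
  let R := LinearMap.range αl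
  let Q := (A' ⊗[A] B) ⧸ R
  let f : C →ₗ[A] B := (toFst α).toLinearMap
  let one : B →ₗ[A] A' ⊗[A] B := (Algebra.TensorProduct.includeRight : B →ₐ[A] A' ⊗[A] B).toLinearMap
  let g : B →ₗ[A] Q := (R.mkQ.restrictScalars A).comp one
  have hQ : ∀ q : Q, ∃ k, ∀ r ∈ m ^ k, r • q = 0 := fun q => by
    obtain ⟨w, rfl⟩ := Submodule.Quotient.mk_surjective _ q
    obtain ⟨k, hk'⟩ := hc w
    refine ⟨k, fun r hr => ?_⟩
    rw [← Submodule.Quotient.mk_smul, Submodule.Quotient.mk_eq_zero]
    exact hk' r hr
  have hex : Function.Exact f g := by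
    intro b
    refine ⟨fun hb => ?_, ?_⟩
    · obtain ⟨x, hx⟩ := (Submodule.Quotient.mk_eq_zero R).1 hb
      exact ⟨⟨(b, x), hx.symm⟩, rfl⟩
    · rintro ⟨c, rfl⟩
      exact (Submodule.Quotient.mk_eq_zero R).2 ⟨toSnd α c, comm α c⟩
  have key : ∀ w : A' ⊗[A] C, α (cmp α w) = f.lTensor A' w := by
    intro w
    induction w using TensorProduct.induction_on with
    | zero => simp
    | tmul a' c =>
      rw [cmp_tmul, map_smul, comm, TensorProduct.smul_tmul', smul_eq_mul, mul_one]
      rfl
    | add x y hx hy => simp only [map_add, hx, hy]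
  let K : Submodule A M' := LinearMap.ker αA
  let j : K →ₗ[A] C :=
    { toFun := fun x => ⟨(0, x.1), (TensorProduct.tmul_zero _ _).trans x.2.symm⟩
      map_add' := fun x y => Subtype.ext (Prod.ext (add_zero 0).symm rfl)
      map_smul' := fun r x => Subtype.ext (Prod.ext (smul_zero r).symm rfl) }
  have hjf : Function.Exact j f := by
    intro c
    refine ⟨fun h => ?_, ?_⟩
    · have h0 : α (toSnd α c) = 0 := by
        rw [comm, show toFst α c = 0 from h, TensorProduct.tmul_zero]
      exact ⟨⟨toSnd α c, h0⟩, Subtype.ext (Prod.ext h.symm rfl)⟩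
    · rintro ⟨x, rfl⟩
      rfl
  constructor
  · rw [injective_iff_map_eq_zero]
    intro w hw
    have h1 : f.lTensor A' w = 0 := by rw [← key, hw, map_zero]
    obtain ⟨z, rfl⟩ := (Module.Flat.lTensor_exact A' hjf w).1 h1
    let K' : Submodule A' M' := LinearMap.ker αl
    let ι : K →ₗ[A] K' :=
      { toFun := fun x => ⟨x.1, x.2⟩
        map_add' := fun _ _ => rfl
        map_smul' := fun _ _ => rfl }
    have hK : ∀ t : K', ∃ k, ∀ r ∈ m ^ k, r • t = 0 := fun t => by
      obtain ⟨k, hk'⟩ := hk t.1 t.2
      exact ⟨k, fun r hr => Subtype.ext (hk' r hr)⟩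
    have e : ∀ z, ((LinearMap.id : K' →ₗ[A] K').liftBaseChange A' (ι.lTensor A' z)).1 = cmp α (j.lTensor A' z) := by
      intro z
      induction z using TensorProduct.induction_on with
      | zero => simp
      | tmul a' x =>
        rw [LinearMap.lTensor_tmul, LinearMap.liftBaseChange_tmul, LinearMap.lTensor_tmul, cmp_tmul]
        rfl
      | add x y hx hy =>
        simp only [map_add, Submodule.coe_add]
        exact congrArg₂ (· + ·) hx hy
    have h0 : ι.lTensor A' z = 0 := mult_injective happrox hK (by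
      rw [map_zero]
      exact Subtype.ext ((e z).trans hw))
    have : z = 0 := Module.Flat.lTensor_preserves_injective_linearMap (M := A') ι
      (fun x y h => Subtype.ext (congrArg Subtype.val h :)) (h0.trans (map_zero _).symm)
    rw [this, map_zero]
  · intro x
    have h1 : g.lTensor A' (α x) = 0 := by
      refine mult_injective happrox hQ ?_
      rw [map_zero]
      have e : ∀ w : A' ⊗[A] B, (LinearMap.id : Q →ₗ[A] Q).liftBaseChange A' (g.lTensor A' w) =
          Submodule.Quotient.mk w := by
        intro w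
        induction w using TensorProduct.induction_on with
        | zero => simp
        | tmul a' b =>
          rw [LinearMap.lTensor_tmul, LinearMap.liftBaseChange_tmul, LinearMap.id_apply]
          show a' • (Submodule.Quotient.mk ((1 : A') ⊗ₜ[A] b) : Q) = _
          rw [← Submodule.Quotient.mk_smul, TensorProduct.smul_tmul', smul_eq_mul, mul_one]
        | add x y hx hy => simp only [map_add, hx, hy, Submodule.Quotient.mk_add]
      rw [e]
      exact (Submodule.Quotient.mk_eq_zero R).2 ⟨x, rfl⟩
    obtain ⟨z, hz⟩ := (Module.Flat.lTensor_exact A' hex (α x)).1 h1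
    have h2 : α (x - cmp α z) = 0 := by rw [map_sub, key, hz, sub_self]
    let c : C := ⟨(0, x - cmp α z), (TensorProduct.tmul_zero _ _).trans h2.symm⟩
    refine ⟨z + 1 ⊗ₜ c, ?_⟩
    rw [map_add, cmp_tmul, one_smul]
    show cmp α z + (x - cmp α z) = x
    exact add_sub_cancel _ _

include happrox hk hc in
theorem finite_glue [Module.FaithfullyFlat A A'] [Module.Finite A' M'] : Module.Finite A (glue α) :=
  haveI : Module.Finite A' (A' ⊗[A] glue α) :=
    Module.Finite.equiv (AlgEquiv.ofBijective (cmp α) (cmp_bijective happrox α hk hc)).toLinearEquiv.symm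
  Module.Finite.of_finite_tensorProduct_of_faithfullyFlat A'

end Groth.Agent.GlueCompl21
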